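import Cfsg.Agent.H875.XD.Crit
import Cfsg.Agent.H440.TD4.Main

/-!
# S4791 + S4927, row `³D₄(q)`: `p + 1 ≤ kJ` (helper875; a copy of helper440's `le_kB_tw`)
-/

set_option autoImplicit false
set_option linter.unusedSectionVars false
set_option linter.unusedTactic false
set_option linter.unreachableTactic false

namespace Cfsg.Agent.H875.XD

open CoxeterSystem Cfsg Cfsg.Lie Cfsg.Lie.ChevalleyDatum
open Cfsg.Agent.ChevalleyStructure Cfsg.Agent.ChevalleyStructure.Elts Cfsg.Agent.ChevalleyStructure.CoxeterGeom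
  Cfsg.Agent.ChevalleyStructure.CoxeterGeomTypes Cfsg.Agent.ChevalleyStructure.NPerm
open Cfsg.Agent.Tits.Roots Cfsg.Agent.Tits.Core Cfsg.Agent.Nodes Cfsg.Agent.Nodes.Reps Cfsg.Agent.Nodes.BNOf
  Cfsg.Agent.Nodes.RGDChev Cfsg.Agent.Nodes.Bruhat
open Cfsg.Agent.H210.EL Cfsg.Agent.H508.KB Cfsg.Agent.H129 Cfsg.Agent.H129.WData Cfsg.Agent.H129.TriD4
  Cfsg.Agent.H129.TorusMain
open Cfsg.Agent.H440.TD4
open Cfsg.Agent.H508.XR (kJ)

universe u v

/-- **`p + 1 ≤ kJ`** from a line with fusion `{1, -1}` and a Weyl element. -/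
theorem le_kJ_of_model {D : ChevalleyDatum} {l : ℕ} {M : CoxeterMatrix (Fin l)} {hp : IsType D l M}
    {p : ℕ} [hpp : Fact p.Prime] {Q : ℕ} {g : (Fin l → ℤ) ≃+ (Fin l → ℤ)} {w : M.Group} {S : Type u} [Group S]
    {X : (Fin l → ZMod p) → S} [Finite S] {I : Ideal AlgInt} (hD : D6J p I S) (hM : IsPModular p I) (hp2 : p ≠ 2)
    (hX : Model hp p Q g w X)
    {v : M.Group} (hv : ∀ x, rep M.toCoxeterSystem hp.isCartan v (rep M.toCoxeterSystem hp.isCartan w (g x)) =
      rep M.toCoxeterSystem hp.isCartan w (g (rep M.toCoxeterSystem hp.isCartan v x)))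
    {a b : Fin l → ZMod p} (ha : a ∈ Lam hp p Q g w) (hb : b ∈ Lam hp p Q g w) (ha0 : a ≠ 0) (hb0 : b ≠ 0)
    (hvb : ∀ x, lam b (rep M.toCoxeterSystem hp.isCartan v x) = lam b x) {s t : ZMod p} (hts : t * s = 1) (ht : t ≠ 1)
    (hva : ∀ x, lam a (rep M.toCoxeterSystem hp.isCartan v x) = s * lam a x)
    (hfus : ∀ (w' : M.Group) (i j : ZMod p),
      (∀ x, j * lam b (rep M.toCoxeterSystem hp.isCartan w' x) = i * lam b x) → i = j ∨ i = -j) : p + 1 ≤ kJ p I S := by
  obtain ⟨m, hm⟩ := hX.act v hv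
  have h1 : m * X b * m⁻¹ = X b := hm b hb b hb hvb
  have h2 : m * X a * m⁻¹ = X a ^ t.val := by
    rw [← hX.smul' ha]
    refine hm a ha _ (Lam.smul hp t ha) fun x => ?_
    rw [lam_smul', hva, ← mul_assoc, hts, one_mul]
  refine le_kJ_of_line hD hM hp2 (hX.order hb hb0) (hX.order ha ha0) (hX.comm hb ha) (c := m) ?_ h2 ?_ ?_
  · show X b * m = m * X b
    rw [mul_inv_eq_iff_eq_mul] at h1
    exact h1.symm
  · rwa [ZMod.natCast_zmod_val]
  · intro h i hij
    rw [← hX.smul hb] at hij
    obtain ⟨w', hw'⟩ := hX.fus _ hb _ (Lam.smul hp _ hb) h hij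
    have h3 := hfus w' 1 (i : ZMod p) fun x => by
      rw [← lam_smul', one_mul]
      exact hw' x
    rcases h3 with h3 | h3
    · exact Or.inl h3.symm
    · refine Or.inr ?_
      rw [h3, neg_neg]

/-- **`p + 1 ≤ kJ`** for `³D₄(q)`, `p ∣ q⁶ - 1`. -/
theorem le_kJ_tw {S : Type u} [Group S] [Finite S] {F : Type v} [Field F] [Fintype F] {p : ℕ} [hpp : Fact p.Prime]
    {I : Ideal AlgInt} (hD : D6J p I S) (hM : IsPModular p I) (h5 : 5 ≤ p) {q : ℕ} (hq : IsPrimePow q) (hF : Fintype.card F = q ^ 3)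
    (hpq : ¬ p ∣ q) (h6 : (q : ZMod p) ^ 6 = 1) (e : S ≃* ↥(Lie.twistedD4 F q)) : p + 1 ≤ kJ p I S := by
  have hp1 : p.Prime := hpp.out
  have hp2 : p ≠ 2 := by omega
  obtain ⟨r, e', hpF, hpc, hpk, -, hpe, hk⟩ := TorusUntw.exists_closure hF
  obtain ⟨r', f, hp', he, hqe'⟩ := id hq
  have hpp' : r' = r := by
    have h1 : r' ∣ r ^ e' := by
      rw [← hpe, ← hqe']
      exact dvd_pow (dvd_pow_self r' he.ne') (by norm_num)
    exact (Nat.prime_dvd_prime_iff_eq hp'.nat_prime hpF.out).1 (hp'.nat_prime.dvd_of_dvd_pow h1)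
  subst hpp'
  have hqe : q = r' ^ f := hqe'.symm
  have hpr : p ≠ r' := by
    rintro rfl
    exact hpq (by rw [hqe]; exact dvd_pow_self _ he.ne')
  have hmodel := fun w : coxeterD4.Group => exists_model (k := AlgebraicClosure F) RGDTwD4.hp hk hpr
    TorusChar.invC_D4 (by norm_num) he isFrob_tau (fr_tau coxeterD4.toCoxeterSystem)
    (f := (embT (algebraMap F (AlgebraicClosure F)) hq hF).comp e.toMonoidHom)
    ((embT_injective _ hq hF).comp e.injective) (fun y hy => by
      obtain ⟨x, hx⟩ := tau_range _ hqe hq hF hy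
      exact ⟨e.symm x, by
        show embT (algebraMap F (AlgebraicClosure F)) hq hF (e (e.symm x)) = y
        rw [e.apply_symm_apply]
        exact hx⟩) w
  rw [← hqe] at hmodel
  have h2 : (2 : ZMod p) ≠ 0 := cast_ne_zero_of (n := 2) h5 (by norm_num) (by norm_num)
  have h3 : (3 : ZMod p) ≠ 0 := cast_ne_zero_of (n := 3) h5 (by norm_num) (by norm_num)
  have hb1 : b1 p ≠ 0 := fun h => by
    have := congrFun h 1
    simp [b1] at this
  have ha1 : a1 p ≠ 0 := fun h => by
    have := congrFun h 0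
    simp [a1] at this
    exact h2 this
  have hb3 : ∀ o : ZMod p, b3 o ≠ 0 := fun o h => by
    have := congrFun h 0
    simp [b3] at this
  have ha3 : ∀ o : ZMod p, a3 o ≠ 0 := fun o h => by
    have := congrFun h 1
    simp [a3] at this
    exact h3 this
  have hneg : (-1 : ZMod p) ≠ 1 := fun h => h2 (by linear_combination -h)
  have hv1b : EigOK (hd cV1) (1 : ZMod p) (b1 p) := by
    intro j
    fin_cases j <;> simp [cV1, hd, b1, Fin.sum_univ_four]
  have hv1a : EigOK (hd cV1) (-1 : ZMod p) (a1 p) := by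
    intro j
    fin_cases j <;> simp [cV1, hd, a1, Fin.sum_univ_four]
    norm_num
  have hv3b : ∀ o : ZMod p, o ^ 2 + o + 1 = 0 → EigOK (hd cV0) (1 : ZMod p) (b3 o) := by
    intro o ho j
    fin_cases j <;> simp [cV0, hd, b3, Fin.sum_univ_four] <;>
      first | linear_combination ho | linear_combination -ho | ring1
  have hv3a : ∀ o : ZMod p, o ^ 2 + o + 1 = 0 → EigOK (hd cV0) o (a3 o) := by
    intro o ho j
    fin_cases j <;> simp [cV0, hd, a3, Fin.sum_univ_four] <;>
      first | linear_combination ho | linear_combination -ho | ring1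
  have hfac : ((q : ZMod p) - 1) * (((q : ZMod p) + 1) * (((q : ZMod p) ^ 2 + q + 1) *
      ((q : ZMod p) ^ 2 - q + 1))) = 0 := by linear_combination h6
  -- the case `d = 1, 2`
  have case1 : ∀ {L : List (Fin 4 × Mat 4)} {Th : Mat 4}, ChainOK DataD4C.Am L →
      (∀ j, hd L ((![2, 1, 3, 0] : Fin 4 → Fin 4) j) = Th j) → CommOK Th (hd cV1) →
      EigOK Th (q : ZMod p) (a1 p) → EigOK Th (q : ZMod p) (b1 p) → p + 1 ≤ kJ p I S := by
    intro L Th hL hT hc ha hb
    obtain ⟨X, hX⟩ := hmodel (el L)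
    refine le_kJ_of_model hD hM hp2 hX (v := el cV1) (comm_of hL hT okV1 hc) (mem_Lam hL hT ha) (mem_Lam hL hT hb)
      ha1 hb1 (fun x => ?_) (s := -1) (t := -1) (by norm_num) hneg (rep_of okV1 hv1a) (fus1 h5)
    rw [rep_of okV1 hv1b, one_mul]
  -- the case `d = 3, 6`
  have case3 : ∀ {L : List (Fin 4 × Mat 4)} {Th : Mat 4} {o : ZMod p}, o ^ 2 + o + 1 = 0 → ChainOK DataD4C.Am L →
      (∀ j, hd L ((![2, 1, 3, 0] : Fin 4 → Fin 4) j) = Th j) → CommOK Th (hd cV0) →
      EigOK Th (q : ZMod p) (a3 o) → EigOK Th (q : ZMod p) (b3 o) → p + 1 ≤ kJ p I S := by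
    intro L Th o ho hL hT hc ha hb
    obtain ⟨X, hX⟩ := hmodel (el L)
    refine le_kJ_of_model hD hM hp2 hX (v := el cV0) (comm_of hL hT okV0 hc) (mem_Lam hL hT ha) (mem_Lam hL hT hb)
      (ha3 o) (hb3 o) (fun x => ?_) (s := o) (t := o ^ 2) (by linear_combination (o - 1) * ho)
      (fun h => h3 ?_) (rep_of okV0 (hv3a o ho)) (fus3 ho)
    · rw [rep_of okV0 (hv3b o ho), one_mul]
    · have h4 : o = -2 := by linear_combination ho - h
      rw [h4] at ho
      linear_combination ho
  rcases mul_eq_zero.1 hfac with h | h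
  · have hq1 : (q : ZMod p) = 1 := by linear_combination h
    rw [hq1] at case1
    refine case1 (L := []) trivial hd1 comm1 ?_ ?_
    · intro j
      fin_cases j <;> simp [T1, a1, Fin.sum_univ_four]
    · intro j
      fin_cases j <;> simp [T1, b1, Fin.sum_univ_four]
  rcases mul_eq_zero.1 h with h | h
  · have hq1 : (q : ZMod p) = -1 := by linear_combination h
    rw [hq1] at case1
    refine case1 (L := cN) okN hd2 comm2 ?_ ?_
    · intro j
      fin_cases j <;> simp [T2, a1, Fin.sum_univ_four]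
    · intro j
      fin_cases j <;> simp [T2, b1, Fin.sum_univ_four]
  rcases mul_eq_zero.1 h with h | h
  · refine case3 (L := cV0) (o := (q : ZMod p)) h okV0 hd3 comm3 ?_ ?_
    · intro j
      fin_cases j <;> simp [T3, a3, Fin.sum_univ_four] <;>
        first | linear_combination h | linear_combination -h | linear_combination (q : ZMod p) * h |
          linear_combination -(q : ZMod p) * h | ring1
    · intro j
      fin_cases j <;> simp [T3, b3, Fin.sum_univ_four] <;>
        first | linear_combination h | linear_combination -h | linear_combination (q : ZMod p) * h |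
          linear_combination -(q : ZMod p) * h | ring1
  · refine case3 (L := cNV0) (o := -(q : ZMod p)) (by linear_combination h) okNV0 hd6 comm6 ?_ ?_
    · intro j
      fin_cases j <;> simp [T6, a3, Fin.sum_univ_four] <;>
        first | linear_combination h | linear_combination -h | linear_combination (q : ZMod p) * h |
          linear_combination -(q : ZMod p) * h | ring1
    · intro j
      fin_cases j <;> simp [T6, b3, Fin.sum_univ_four] <;>
        first | linear_combination h | linear_combination -h | linear_combination (q : ZMod p) * h |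
          linear_combination -(q : ZMod p) * h | ring1

end Cfsg.Agent.H875.XD
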