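import Cfsg.Agent.H875.XD.Cases
import Cfsg.Agent.H875.XD.KJ
import Cfsg.Agent.H364.XR.Crit
import Cfsg.Agent.H440.TD4.Row
import Cfsg.Agent.H76.KJ.Basic

/-!
# S4791 + S4927, row `³D₄(q)` (helper875)
-/

set_option autoImplicit false

open Cfsg Subgroup
open Cfsg.Agent.H508.XR (NC)

namespace Cfsg.Agent.H875.XD

universe u

variable {S : Type u} [Group S] [Finite S] {r : ℕ} [Fact r.Prime] {F : Type} [Field F]
  [Fintype F] [CharP F r] {p : ℕ} [hpp : Fact p.Prime] {M : Ideal AlgInt}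

theorem not_dvd_q (hrp : r ≠ p) {q : ℕ} (hF : Fintype.card F = q ^ 3) : ¬ p ∣ q := by
  intro h
  obtain ⟨n, -, h2⟩ := FiniteField.card F r
  rw [hF] at h2
  have h3 : p ∣ r ^ (n : ℕ) := by
    rw [← h2]
    exact dvd_pow h (by norm_num)
  exact hrp.symm ((Nat.prime_dvd_prime_iff_eq hpp.out Fact.out).1 (hpp.out.dvd_of_dvd_pow h3))

/-- `p + 1 ≤ x0` for `³D₄(q)`, Sylow `p`-subgroups not cyclic (`D6J`: helper185's statement). -/
theorem x0_3D4_of (hD : D6J p M S) (hrp : r ≠ p) (h11 : 11 ≤ p) (hM : IsPModular p M) (q : ℕ) (hq : IsPrimePow q)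
    (hF : Fintype.card F = q ^ 3) (e : S ≃* ↥(Lie.twistedD4 F q)) (hP : NC p S) :
    p + 1 ≤ H674.XZ.x0 p M S := by
  have hpq : ¬ p ∣ q := not_dvd_q hrp hF
  have h6 := H440.TD4.q_pow_six hq hF hpq e hP
  rw [x0_eq_kJ_tw hM h11 hq hF hpq h6 e]
  exact le_kJ_tw hD hM (by omega) hq hF hpq h6 e

/-- the row, from D6J -/
theorem row_3D4_of [IsSimpleGroup S] (hD : D6J p M S) (hrp : r ≠ p) (h11 : 11 ≤ p) (hM : IsPModular p M) (q : ℕ)
    (hq : IsPrimePow q) (hF : Fintype.card F = q ^ 3) (e : Nonempty (S ≃* Lie.twistedD4 F q)) (hP : NC p S) :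
    H668.XZ.Row0 p M S := by
  obtain ⟨e'⟩ := id e
  exact H364.XR.row_of_ab hM (H299.AO.ab_3D4 p S (r := r) hq hF e') (x0_3D4_of hD hrp h11 hM q hq hF e' hP)

theorem d6j {S : Type u} [Group S] [Finite S] (h3 : p ≠ 2) (hM : IsPModular p M) : D6J p M S :=
  fun x hx e b h1 h2 => H76.KJ.kJ_of_elt h3 hM x hx e b h1 h2

/-- `p + 1 ≤ x0` for `³D₄(q)`, Sylow `p`-subgroups not cyclic. -/
theorem x0_3D4 (hrp : r ≠ p) (h11 : 11 ≤ p) (hM : IsPModular p M) (q : ℕ) (hq : IsPrimePow q)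
    (hF : Fintype.card F = q ^ 3) (e : S ≃* ↥(Lie.twistedD4 F q)) (hP : NC p S) :
    p + 1 ≤ H674.XZ.x0 p M S :=
  x0_3D4_of (d6j (by omega) hM) hrp h11 hM q hq hF e hP

/-- **S4791 + S4927: the row `³D₄(q)`.** -/
theorem row_3D4 [IsSimpleGroup S] (hrp : r ≠ p) (h11 : 11 ≤ p) (hM : IsPModular p M) (q : ℕ)
    (hq : IsPrimePow q) (hF : Fintype.card F = q ^ 3) (e : Nonempty (S ≃* Lie.twistedD4 F q)) (hP : NC p S) :
    H668.XZ.Row0 p M S :=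
  row_3D4_of (d6j (by omega) hM) hrp h11 hM q hq hF e hP

end Cfsg.Agent.H875.XD
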