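import Cfsg.Agent.H875.XD.Height
import Cfsg.Agent.S1067

/-!
# S4791 + S4927, row `³D₄(q)`: `x0 = kJ`, the four cases `d = 1, 2, 3, 6` (helper875)
-/

set_option autoImplicit false
set_option linter.unusedSectionVars false
set_option linter.unusedTactic false
set_option linter.unreachableTactic false

namespace Cfsg.Agent.H875.XD

open CoxeterSystem Cfsg Cfsg.Lie Cfsg.Lie.ChevalleyDatum
open Cfsg.Agent.ChevalleyStructure Cfsg.Agent.ChevalleyStructure.Elts Cfsg.Agent.ChevalleyStructure.CoxeterGeom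
  Cfsg.Agent.ChevalleyStructure.CoxeterGeomTypes Cfsg.Agent.ChevalleyStructure.NPerm
open Cfsg.Agent.Tits.Roots Cfsg.Agent.Tits.Core Cfsg.Agent.Nodes Cfsg.Agent.Nodes.Reps Cfsg.Agent.Nodes.BNOf
  Cfsg.Agent.Nodes.RGDChev Cfsg.Agent.Nodes.Bruhat
open Cfsg.Agent.H210.EL Cfsg.Agent.H508.KB Cfsg.Agent.H129 Cfsg.Agent.H129.WData Cfsg.Agent.H129.TriD4
  Cfsg.Agent.H129.TorusMain
open Cfsg.Agent.H440.TD4 Cfsg.Agent.H208.XR
open Cfsg.Agent.H508.XR (kJ)
open Cfsg.Agent.H674.XZ (x0)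

universe u v

section part

variable {p : ℕ} [hpp : Fact p.Prime]

/-- the `p`-part of `A` if `|S| = A² B`, `p ∤ B` -/
theorem exists_part {A B : ℤ} (hA0 : A ≠ 0) (hA : ((A : ℤ) : ZMod p) = 0) (hB : ((B : ℤ) : ZMod p) ≠ 0) {c : ℕ}
    (hc : (c : ℤ) = A ^ 2 * B) : ∃ a : ℕ, 1 ≤ a ∧ ((A : ℤ) : ZMod (p ^ a)) = 0 ∧ ¬ p ^ (2 * a + 1) ∣ c := by
  have hp1 : p.Prime := hpp.out
  have hfin : FiniteMultiplicity (p : ℤ) A := Int.finiteMultiplicity_iff.2 ⟨by
    rw [Int.natAbs_natCast]; exact hp1.ne_one, hA0⟩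
  obtain ⟨m, hm, hm'⟩ := hfin.exists_eq_pow_mul_and_not_dvd
  set a := multiplicity (p : ℤ) A with ha
  have hdA : (p : ℤ) ∣ A := (ZMod.intCast_zmod_eq_zero_iff_dvd A p).1 hA
  refine ⟨a, ?_, ?_, ?_⟩
  · by_contra h0
    have h1 : a = 0 := by omega
    rw [h1, pow_zero, one_mul] at hm
    exact hm' (hm ▸ hdA)
  · rw [ZMod.intCast_zmod_eq_zero_iff_dvd]
    push_cast
    exact ⟨m, hm⟩
  · intro hd
    have h1 : ((p ^ (2 * a + 1) : ℕ) : ℤ) ∣ (c : ℤ) := Int.natCast_dvd_natCast.2 hd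
    rw [hc, hm] at h1
    push_cast at h1
    have h2 : (p : ℤ) ^ (2 * a) * (p : ℤ) ∣ (p : ℤ) ^ (2 * a) * (m ^ 2 * B) := by
      have e1 : ((p : ℤ) ^ a * m) ^ 2 * B = (p : ℤ) ^ (2 * a) * (m ^ 2 * B) := by
        rw [mul_pow, ← pow_mul, mul_comm a 2]; ring
      rwa [e1, pow_succ] at h1
    have hp0 : (p : ℤ) ^ (2 * a) ≠ 0 := pow_ne_zero _ (by exact_mod_cast hp1.ne_zero)
    have h3 := (mul_dvd_mul_iff_left hp0).1 h2
    have hpi : Prime (p : ℤ) := Nat.prime_iff_prime_int.1 hp1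
    rcases hpi.dvd_or_dvd h3 with h4 | h4
    · exact hm' (hpi.dvd_of_dvd_pow h4)
    · exact hB ((ZMod.intCast_zmod_eq_zero_iff_dvd B p).2 h4)

end part

variable {S : Type u} [Group S] [Finite S] {F : Type v} [Field F] [Fintype F] {p : ℕ} [hpp : Fact p.Prime]
    {I : Ideal AlgInt}

/-- **`x0 = kJ`** for `³D₄(q)`, `p ∣ q⁶ - 1`. -/
theorem x0_eq_kJ_tw (hM : IsPModular p I) (h11 : 11 ≤ p) {q : ℕ} (hq : IsPrimePow q) (hF : Fintype.card F = q ^ 3)
    (hpq : ¬ p ∣ q) (h6 : (q : ZMod p) ^ 6 = 1) (e : S ≃* ↥(Lie.twistedD4 F q)) : x0 p I S = kJ p I S := by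
  have hp1 : p.Prime := hpp.out
  have hq2 : 2 ≤ q := hq.two_le
  have hcard : (Nat.card S : ℤ) = (q : ℤ) ^ 12 * ((q : ℤ) ^ 2 - 1) * ((q : ℤ) ^ 6 - 1) * ((q : ℤ) ^ 8 + (q : ℤ) ^ 4 + 1) := by
    rw [Nat.card_congr e.toEquiv, Cfsg.Agent.S1067.result hq hF]
    have h1 : 1 ≤ q ^ 2 := Nat.one_le_pow _ _ (by omega)
    have h2 : 1 ≤ q ^ 6 := Nat.one_le_pow _ _ (by omega)
    push_cast [h1, h2]
    ring
  have hq0 : (q : ZMod p) ≠ 0 := fun h => hpq ((ZMod.natCast_eq_zero_iff _ _).1 h)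
  have h2 : (2 : ZMod p) ≠ 0 := cast_ne_zero_of (n := 2) (by omega) (by norm_num) (by norm_num)
  have h3 : (3 : ZMod p) ≠ 0 := cast_ne_zero_of (n := 3) (by omega) (by norm_num) (by norm_num)
  have hu2 : ∀ a, IsUnit ((2 : ℕ) : ZMod (p ^ a)) := fun a => isUnit_cast (by omega) (by norm_num)
  have hu3 : ∀ a, IsUnit ((3 : ℕ) : ZMod (p ^ a)) := fun a => isUnit_cast (by omega) (by norm_num)
  have hu9 : ∀ a, IsUnit ((9 : ℕ) : ZMod (p ^ a)) := fun a => isUnit_cast (by omega) (by norm_num)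
  -- the case `d = 1, 2`
  have case1 : ∀ {L : List (Fin 4 × Mat 4)} {Th : Mat 4} {a : ℕ}, 1 ≤ a → ¬ p ^ (2 * a + 1) ∣ Nat.card S →
      ChainOK DataD4C.Am L → (∀ j, hd L ((![2, 1, 3, 0] : Fin 4 → Fin 4) j) = Th j) → ¬ CommOK Th (hd cS0) →
      EigOK Th (q : ZMod (p ^ a)) ![0, 1, 0, 0] → EigOK Th (q : ZMod (p ^ a)) ![1, 0, 1, 1] → x0 p I S = kJ p I S := by
    intro L Th a ha hca hL hT hc hb ha'
    refine x0_eq_kJ_of_data hM h11 hq hF hpq e hL hT hc ha hb ha' ?_ ?_ hca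
    · intro x y h
      have e0 := congrFun h 0
      have e1 := congrFun h 1
      simp at e0 e1
      exact ⟨e1, e0⟩
    · intro s
      have hb' : lam ![0, 1, 0, 0] (vec chevD4 4 s) = ((vec chevD4 4 s 1 : ℤ) : ZMod (p ^ a)) := by
        simp [lam, Fin.sum_univ_four]
      have hc' : lam ![1, 0, 1, 1] (vec chevD4 4 s) =
          ((vec chevD4 4 s 0 + vec chevD4 4 s 2 + vec chevD4 4 s 3 : ℤ) : ZMod (p ^ a)) := by
        simp [lam, Fin.sum_univ_four]
      rw [hb', hc']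
      have k2 := hu2 a
      rcases roots1 s with (h | h | h | h) | (h | h)
      · left; rw [h]; simp
      · left; rw [h]; simp
      · left; rw [h]; simpa using k2
      · left; rw [h]; simpa using k2.neg
      · right; rw [h]; simp
      · right; rw [h]; simp
  -- the case `d = 3, 6`
  have case3 : ∀ {L : List (Fin 4 × Mat 4)} {Th : Mat 4} {a : ℕ} {o : ZMod (p ^ a)}, o ^ 2 + o + 1 = 0 → 1 ≤ a →
      ¬ p ^ (2 * a + 1) ∣ Nat.card S →
      ChainOK DataD4C.Am L → (∀ j, hd L ((![2, 1, 3, 0] : Fin 4 → Fin 4) j) = Th j) → ¬ CommOK Th (hd cS0) →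
      EigOK Th (q : ZMod (p ^ a)) ![1, 0, o, o ^ 2] → EigOK Th (q : ZMod (p ^ a)) ![o - 1, 3, o - 1, o - 1] →
      x0 p I S = kJ p I S := by
    intro L Th a o ho ha hca hL hT hc hb ha'
    refine x0_eq_kJ_of_data hM h11 hq hF hpq e hL hT hc ha hb ha' ?_ ?_ hca
    · intro x y h
      have e0 := congrFun h 0
      have e1 := congrFun h 1
      simp at e0 e1
      have k3 := hu3 a
      have hy : y = 0 := by
        have : y * ((3 : ℕ) : ZMod (p ^ a)) = 0 * ((3 : ℕ) : ZMod (p ^ a)) := by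
          rw [zero_mul]; push_cast; exact e1
        exact k3.mul_left_injective this
      rw [hy] at e0
      exact ⟨by simpa using e0, hy⟩
    · intro s
      have hb' : lam ![1, 0, o, o ^ 2] (vec chevD4 4 s) = ((vec chevD4 4 s 0 - vec chevD4 4 s 3 : ℤ) : ZMod (p ^ a)) +
          ((vec chevD4 4 s 2 - vec chevD4 4 s 3 : ℤ) : ZMod (p ^ a)) * o := by
        simp [lam, Fin.sum_univ_four]
        linear_combination ((vec chevD4 4 s 3 : ℤ) : ZMod (p ^ a)) * ho
      have hc' : lam ![o - 1, 3, o - 1, o - 1] (vec chevD4 4 s) =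
          ((3 * vec chevD4 4 s 1 - (vec chevD4 4 s 0 + vec chevD4 4 s 2 + vec chevD4 4 s 3) : ℤ) : ZMod (p ^ a)) +
          ((vec chevD4 4 s 0 + vec chevD4 4 s 2 + vec chevD4 4 s 3 : ℤ) : ZMod (p ^ a)) * o := by
        simp [lam, Fin.sum_univ_four]
        ring
      rw [hb', hc']
      rcases roots3 s with (h | h) | h
      · left; exact isUnit_of_nrm ho h (by simp)
      · left; exact isUnit_of_nrm ho h (by simpa using hu3 a)
      · right; exact isUnit_of_nrm ho h (by simpa using hu9 a)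
  have hfac : ((q : ZMod p) - 1) * (((q : ZMod p) + 1) * (((q : ZMod p) ^ 2 + q + 1) *
      ((q : ZMod p) ^ 2 - q + 1))) = 0 := by linear_combination h6
  rcases mul_eq_zero.1 hfac with h | h
  · have hq1 : (q : ZMod p) = 1 := by linear_combination h
    obtain ⟨a, ha, hA, hca⟩ := exists_part (p := p) (A := (q : ℤ) - 1)
      (B := (q : ℤ) ^ 12 * (((q : ℤ) + 1) ^ 2 * ((q : ℤ) ^ 2 + q + 1) ^ 2 * ((q : ℤ) ^ 2 - q + 1) ^ 2 *
        ((q : ℤ) ^ 4 - (q : ℤ) ^ 2 + 1))) (by omega) (by push_cast; exact h) (by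
        push_cast
        rw [hq1]
        ring_nf
        rw [show (36 : ZMod p) = 2 ^ 2 * 3 ^ 2 by norm_num]
        exact mul_ne_zero (pow_ne_zero _ h2) (pow_ne_zero _ h3)) (c := Nat.card S) (by rw [hcard]; ring)
    push_cast at hA
    have hq1' : (q : ZMod (p ^ a)) = 1 := by linear_combination hA
    refine case1 (L := []) ha hca trivial hd1 nc1 ?_ ?_
    · rw [hq1']
      intro j
      fin_cases j <;> simp [T1, Fin.sum_univ_four]
    · rw [hq1']
      intro j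
      fin_cases j <;> simp [T1, Fin.sum_univ_four]
  rcases mul_eq_zero.1 h with h | h
  · have hq1 : (q : ZMod p) = -1 := by linear_combination h
    obtain ⟨a, ha, hA, hca⟩ := exists_part (p := p) (A := (q : ℤ) + 1)
      (B := (q : ℤ) ^ 12 * (((q : ℤ) - 1) ^ 2 * ((q : ℤ) ^ 2 + q + 1) ^ 2 * ((q : ℤ) ^ 2 - q + 1) ^ 2 *
        ((q : ℤ) ^ 4 - (q : ℤ) ^ 2 + 1))) (by omega) (by push_cast; exact h) (by
        push_cast
        rw [hq1]
        ring_nf
        rw [show (36 : ZMod p) = 2 ^ 2 * 3 ^ 2 by norm_num]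
        exact mul_ne_zero (pow_ne_zero _ h2) (pow_ne_zero _ h3)) (c := Nat.card S) (by rw [hcard]; ring)
    push_cast at hA
    have hq1' : (q : ZMod (p ^ a)) = -1 := by linear_combination hA
    refine case1 (L := cN) ha hca okN hd2 nc2 ?_ ?_
    · rw [hq1']
      intro j
      fin_cases j <;> simp [T2, Fin.sum_univ_four]
    · rw [hq1']
      intro j
      fin_cases j <;> simp [T2, Fin.sum_univ_four]
  rcases mul_eq_zero.1 h with h | h
  · obtain ⟨a, ha, hA, hca⟩ := exists_part (p := p) (A := (q : ℤ) ^ 2 + q + 1)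
      (B := (q : ℤ) ^ 12 * (((q : ℤ) - 1) ^ 2 * ((q : ℤ) + 1) ^ 2 * ((q : ℤ) ^ 2 - q + 1) ^ 2 *
        ((q : ℤ) ^ 4 - (q : ℤ) ^ 2 + 1))) (by positivity) (by push_cast; exact h) (by
        push_cast
        rw [show ((q : ZMod p) - 1) ^ 2 = -3 * q by linear_combination h,
          show ((q : ZMod p) + 1) ^ 2 = q by linear_combination h,
          show ((q : ZMod p) ^ 2 - q + 1) ^ 2 = 4 * q ^ 2 by linear_combination ((q : ZMod p) ^ 2 - 3 * q + 1) * h,
          show ((q : ZMod p) ^ 4 - (q : ZMod p) ^ 2 + 1) = -2 * q ^ 2 by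
            linear_combination ((q : ZMod p) ^ 2 - q + 1) * h,
          show (q : ZMod p) ^ 12 * (-3 * q * q * (4 * q ^ 2) * (-2 * q ^ 2)) = 2 ^ 3 * 3 * (q : ZMod p) ^ 18 by ring]
        exact mul_ne_zero (mul_ne_zero (pow_ne_zero _ h2) h3) (pow_ne_zero _ hq0)) (c := Nat.card S)
        (by rw [hcard]; ring)
    push_cast at hA
    refine case3 (L := cV0) (o := (q : ZMod (p ^ a))) hA ha hca okV0 hd3 nc3 ?_ ?_
    · intro j
      fin_cases j <;> simp [T3, Fin.sum_univ_four] <;>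
        first | linear_combination hA | linear_combination -hA | linear_combination (q : ZMod (p ^ a)) * hA |
          linear_combination -(q : ZMod (p ^ a)) * hA | ring1
    · intro j
      fin_cases j <;> simp [T3, Fin.sum_univ_four] <;>
        first | linear_combination hA | linear_combination -hA | linear_combination (q : ZMod (p ^ a)) * hA |
          linear_combination -(q : ZMod (p ^ a)) * hA | ring1
  · obtain ⟨a, ha, hA, hca⟩ := exists_part (p := p) (A := (q : ℤ) ^ 2 - q + 1)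
      (B := (q : ℤ) ^ 12 * (((q : ℤ) - 1) ^ 2 * ((q : ℤ) + 1) ^ 2 * ((q : ℤ) ^ 2 + q + 1) ^ 2 *
        ((q : ℤ) ^ 4 - (q : ℤ) ^ 2 + 1))) (by nlinarith) (by push_cast; exact h) (by
        push_cast
        rw [show ((q : ZMod p) - 1) ^ 2 = -q by linear_combination h,
          show ((q : ZMod p) + 1) ^ 2 = 3 * q by linear_combination h,
          show ((q : ZMod p) ^ 2 + q + 1) ^ 2 = 4 * q ^ 2 by linear_combination ((q : ZMod p) ^ 2 + 3 * q + 1) * h,
          show ((q : ZMod p) ^ 4 - (q : ZMod p) ^ 2 + 1) = -2 * q ^ 2 by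
            linear_combination ((q : ZMod p) ^ 2 + q + 1) * h,
          show (q : ZMod p) ^ 12 * (-q * (3 * q) * (4 * q ^ 2) * (-2 * q ^ 2)) = 2 ^ 3 * 3 * (q : ZMod p) ^ 18 by ring]
        exact mul_ne_zero (mul_ne_zero (pow_ne_zero _ h2) h3) (pow_ne_zero _ hq0)) (c := Nat.card S)
        (by rw [hcard]; ring)
    push_cast at hA
    refine case3 (L := cNV0) (o := -(q : ZMod (p ^ a))) (by linear_combination hA) ha hca okNV0 hd6 nc6 ?_ ?_
    · intro j
      fin_cases j <;> simp [T6, Fin.sum_univ_four] <;>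
        first | linear_combination hA | linear_combination -hA | linear_combination (q : ZMod (p ^ a)) * hA |
          linear_combination -(q : ZMod (p ^ a)) * hA | ring1
    · intro j
      fin_cases j <;> simp [T6, Fin.sum_univ_four] <;>
        first | linear_combination hA | linear_combination -hA | linear_combination (q : ZMod (p ^ a)) * hA |
          linear_combination -(q : ZMod (p ^ a)) * hA | ring1

end Cfsg.Agent.H875.XD
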