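import Cfsg.Agent.H440.TD4.Line
import Cfsg.Agent.H508.XR.Defs2

/-!
# S4791 + S4927, row `³D₄(q)`: the bound `p + 1 ≤ kJ` from a line (helper875)

The number `kJ` of almost `p`-rational characters in the principal block, copied from helper440's criterion for `k(B₀)`
(`H440/TD4/Crit.lean`, `Line.lean`) with helper185's D6J.
-/

set_option autoImplicit false
set_option linter.unusedSectionVars false

open Cfsg Subgroup Cfsg.Agent.H508.KB Cfsg.Agent.H296.KB
open Cfsg.Agent.H508.XR (kJ)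

namespace Cfsg.Agent.H875.XD

universe u

variable {p : ℕ} [hpp : Fact p.Prime] {M : Ideal AlgInt}

/-- the statement of D6J (helper185), one group -/
def D6J (p : ℕ) (M : Ideal AlgInt) (S : Type u) [Group S] [Finite S] : Prop :=
  ∀ x : S, orderOf x = p → ∀ e b : ℕ, (∀ (g : S) (i : ℕ), g * x * g⁻¹ = x ^ i → (i : ZMod p) ^ e = 1) →
    b ≤ blockRank p (principalBlock M ↥(centralizer ({x} : Set S))) →
    (p - 1) / e * b + blockRank p (principalBlock M S) ≤ kJ p M S

/-- `l(B₀(S)) ≥ 2` -/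
theorem two_le_rank_self {S : Type u} [Group S] [Finite S] (hM : IsPModular p M) {y c : S}
    (hy : orderOf y = p) {n : ℕ} (hcy : c * y * c⁻¹ = y ^ n) (hn : (n : ZMod p) ≠ 1) :
    2 ≤ blockRank p (principalBlock M S) := by
  have hp1 : p.Prime := hpp.out
  obtain ⟨a, m, hm, hc⟩ := Nat.exists_eq_pow_mul_and_not_dvd (orderOf_pos c).ne' p hp1.ne_one
  set c' : S := c ^ p ^ a with hc'
  have hoc : orderOf c' = m := by
    rw [hc', orderOf_pow, hc, Nat.gcd_eq_right (Dvd.intro _ rfl),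
      Nat.mul_div_cancel_left _ (pow_pos hp1.pos a)]
  have hcy' : c' * y * c'⁻¹ = y ^ (n ^ p ^ a) := H440.TD4.conj_pow_pow hcy _
  have hn' : ((n ^ p ^ a : ℕ) : ZMod p) ≠ 1 := by
    rw [Nat.cast_pow, ZMod.pow_card_pow]
    exact hn
  have hY : y ^ p = 1 := by rw [← hy, pow_orderOf_eq_one]
  refine two_le_rank hM (zpowers y) ?_ c' ?_ ?_ y (mem_zpowers y) ?_
  · intro g
    obtain ⟨k, hk⟩ := g.2
    refine ⟨1, Subtype.ext ?_⟩
    rw [pow_one, Subgroup.coe_pow, ← hk, Subgroup.coe_one]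
    change (y ^ k) ^ p = 1
    rw [← zpow_natCast, ← zpow_mul, mul_comm, zpow_mul, zpow_natCast, hY, one_zpow]
  · rw [hoc]
    exact hm
  · rintro g ⟨k, rfl⟩
    refine ⟨((n ^ p ^ a : ℕ) : ℤ) * k, ?_⟩
    change y ^ (((n ^ p ^ a : ℕ) : ℤ) * k) = c' * y ^ k * c'⁻¹
    rw [← conj_zpow, hcy', zpow_mul, zpow_natCast]
  · intro h1
    have h2 : y ^ (n ^ p ^ a) = y ^ 1 := by
      rw [← hcy', h1]
      group
    rw [pow_eq_pow_iff_modEq, hy] at h2
    exact hn' (by
      have := (ZMod.natCast_eq_natCast_iff _ _ _).2 h2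
      rwa [Nat.cast_one] at this)

/-- **The criterion** -/
theorem le_kJ_of_line {S : Type u} [Group S] [Finite S] (hD : D6J p M S) (hM : IsPModular p M) (hp2 : p ≠ 2) {x y c : S}
    (hx : orderOf x = p) (hy : orderOf y = p) (hxy : Commute x y) (hxc : Commute x c) {n : ℕ}
    (hcy : c * y * c⁻¹ = y ^ n) (hn : (n : ZMod p) ≠ 1)
    (hfus : ∀ (h : S) (i : ℕ), h * x * h⁻¹ = x ^ i → (i : ZMod p) = 1 ∨ (i : ZMod p) = -1) : p + 1 ≤ kJ p M S := by
  have hp1 : p.Prime := hpp.out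
  have hodd : p % 2 = 1 := (hp1.eq_two_or_odd).resolve_left hp2
  have h1 := H440.TD4.two_le_rank_cent hM hy hxy hxc hcy hn
  have h2 := two_le_rank_self hM hy hcy hn
  have h3 := hD x hx 2 2 (fun g i hg => by
    rcases hfus g i hg with h | h
    · rw [h, one_pow]
    · rw [h]; ring) h1
  have := hp1.two_le
  omega

end Cfsg.Agent.H875.XD
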