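import Cfsg.Agent.H208.XR.Frame
import Cfsg.Agent.H603.AP.Height
import Cfsg.Agent.H440.TD4.Main

/-!
# S4791 + S4927, row `³D₄(q)`: all almost `p`-rational characters of `B₀` have height zero (helper875)

`N = p ^ a` the `p`-part of `Φ_d(q)`, `d = 1, 2, 3, 6`; the Sylow `p`-subgroup is the torus `{X c | c ∈ Lam}` of helper208's
`ModelN`, of order `N ^ 2`. `a = 1`: D10. `a ≥ 2`: D11 with `|N(P) : C(P)| ≤ 96` (a proper subgroup of the Weyl group of order
`192`) and `N ^ 2 ≤ |Lam_reg| + 24 N` (each of the 24 roots is a linear form on `Lam` with a unit coefficient).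
-/

set_option autoImplicit false
set_option linter.unusedSectionVars false
set_option linter.unusedTactic false
set_option linter.unreachableTactic false

namespace Cfsg.Agent.H875.XD

open CoxeterSystem Cfsg Cfsg.Lie Cfsg.Lie.ChevalleyDatum
open Cfsg.Agent.ChevalleyStructure Cfsg.Agent.ChevalleyStructure.Elts Cfsg.Agent.ChevalleyStructure.CoxeterGeom
  Cfsg.Agent.ChevalleyStructure.CoxeterGeomTypes Cfsg.Agent.ChevalleyStructure.NPerm
open Cfsg.Agent.Tits.Roots Cfsg.Agent.Tits.Core Cfsg.Agent.Nodes Cfsg.Agent.Nodes.Reps Cfsg.Agent.Nodes.BNOf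
  Cfsg.Agent.Nodes.RGDChev Cfsg.Agent.Nodes.Bruhat
open Cfsg.Agent.H210.EL Cfsg.Agent.H508.KB Cfsg.Agent.H129 Cfsg.Agent.H129.WData Cfsg.Agent.H129.TriD4
  Cfsg.Agent.H129.TorusMain
open Cfsg.Agent.H440.TD4 Cfsg.Agent.H208.XR
open Cfsg.Agent.H508.XR (kJ)
open Cfsg.Agent.H674.XZ (x0)

universe u v

/-! ## counting -/

section count

variable {N : ℕ} [NeZero N]

theorem card_bad_le (β α : ZMod N) (h : IsUnit β ∨ IsUnit α) :
    (Finset.univ.filter fun z : ZMod N × ZMod N => z.1 * β + z.2 * α = 0).card ≤ N := by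
  classical
  have hN : (Finset.univ : Finset (ZMod N)).card = N := by rw [Finset.card_univ, ZMod.card]
  rcases h with h | h
  · have hi : Set.InjOn (Prod.snd : ZMod N × ZMod N → ZMod N)
        ↑(Finset.univ.filter fun z : ZMod N × ZMod N => z.1 * β + z.2 * α = 0) := by
      rintro ⟨x, y⟩ hx ⟨x', y'⟩ hx' hyy
      simp only [Finset.coe_filter, Finset.mem_univ, true_and, Set.mem_ofPred_eq] at hx hx' hyy
      subst hyy
      have h1 : x * β = x' * β := by linear_combination hx - hx'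
      rw [h.mul_left_inj] at h1
      rw [h1]
    rw [← Finset.card_image_of_injOn hi]
    exact (Finset.card_le_card (Finset.subset_univ _)).trans hN.le
  · have hi : Set.InjOn (Prod.fst : ZMod N × ZMod N → ZMod N)
        ↑(Finset.univ.filter fun z : ZMod N × ZMod N => z.1 * β + z.2 * α = 0) := by
      rintro ⟨x, y⟩ hx ⟨x', y'⟩ hx' hyy
      simp only [Finset.coe_filter, Finset.mem_univ, true_and, Set.mem_ofPred_eq] at hx hx' hyy
      subst hyy
      have h1 : y * α = y' * α := by linear_combination hx - hx'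
      rw [h.mul_left_inj] at h1
      rw [h1]
    rw [← Finset.card_image_of_injOn hi]
    exact (Finset.card_le_card (Finset.subset_univ _)).trans hN.le

/-- the number of regular elements -/
theorem card_good {m : ℕ} (β α : Fin m → ZMod N) (h : ∀ s, IsUnit (β s) ∨ IsUnit (α s)) :
    N ^ 2 ≤ (Finset.univ.filter fun z : ZMod N × ZMod N => ∀ s, z.1 * β s + z.2 * α s ≠ 0).card + m * N := by
  classical
  have h1 : (Finset.univ : Finset (ZMod N × ZMod N)) ⊆
      (Finset.univ.filter fun z : ZMod N × ZMod N => ∀ s, z.1 * β s + z.2 * α s ≠ 0) ∪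
      Finset.univ.biUnion fun s : Fin m =>
        Finset.univ.filter fun z : ZMod N × ZMod N => z.1 * β s + z.2 * α s = 0 := by
    intro z _
    rw [Finset.mem_union, Finset.mem_biUnion]
    by_cases hz : ∀ s, z.1 * β s + z.2 * α s ≠ 0
    · exact Or.inl (by simpa using hz)
    · push Not at hz
      obtain ⟨s, hs⟩ := hz
      exact Or.inr ⟨s, Finset.mem_univ _, by simpa using hs⟩
  have h2 := (Finset.card_le_card h1).trans (Finset.card_union_le _ _)
  have h3 : (Finset.univ.biUnion fun s : Fin m =>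
        Finset.univ.filter fun z : ZMod N × ZMod N => z.1 * β s + z.2 * α s = 0).card ≤ m * N := by
    refine (Finset.card_biUnion_le).trans ?_
    refine (Finset.sum_le_card_nsmul _ _ N fun s _ => card_bad_le _ _ (h s)).trans ?_
    rw [Finset.card_univ, Fintype.card_fin, smul_eq_mul]
  have h4 : (Finset.univ : Finset (ZMod N × ZMod N)).card = N ^ 2 := by
    rw [Finset.card_univ, Fintype.card_prod, ZMod.card, sq]
  omega

end count

/-! ## the centralizer of `θ` in the Weyl group -/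

/-- the chain of the first simple reflection -/
def cS0 : List (Fin 4 × Mat 4) := [(0, ![![-1, 0, 0, 0], ![1, 1, 0, 0], ![0, 0, 1, 0], ![0, 0, 0, 1]])]

theorem okS0 : ChainOK DataD4C.Am cS0 := by decide +kernel
theorem nc1 : ¬ CommOK T1 (hd cS0) := by decide +kernel
theorem nc2 : ¬ CommOK T2 (hd cS0) := by decide +kernel
theorem nc3 : ¬ CommOK T3 (hd cS0) := by decide +kernel
theorem nc6 : ¬ CommOK T6 (hd cS0) := by decide +kernel

section

variable {L C : List (Fin 4 × Mat 4)} {Th : Mat 4}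

theorem commOK_of (hL : ChainOK DataD4C.Am L) (hT : ∀ j, hd L ((![2, 1, 3, 0] : Fin 4 → Fin 4) j) = Th j)
    (hC : ChainOK DataD4C.Am C) (h : el C ∈ Cth RGDTwD4.hp tri (el L)) : CommOK Th (hd C) := by
  have hlin := TwD4Cyc.lin_tri coxeterD4.toCoxeterSystem DataD4C.hA hL hT
  have hvr := chain_rep RGDTwD4.hp coxeterD4.toCoxeterSystem DataD4C.hA hC
  intro j m
  have h1 : rep coxeterD4.toCoxeterSystem RGDTwD4.hp.isCartan (el C) (theta RGDTwD4.hp coxeterD4.toCoxeterSystem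
      (coxeterD4.toCoxeterSystem.wordProd (L.map Prod.fst)) tri (sr j)) =
    theta RGDTwD4.hp coxeterD4.toCoxeterSystem (coxeterD4.toCoxeterSystem.wordProd (L.map Prod.fst)) tri
      (rep coxeterD4.toCoxeterSystem RGDTwD4.hp.isCartan (el C) (sr j)) := h (sr j)
  have h2 := congrFun h1 m
  rw [hlin.apply, hlin j, show rep coxeterD4.toCoxeterSystem RGDTwD4.hp.isCartan (el C) (Th j) m =
      ∑ n, Th j n * hd C n m from H795.TorsData.rep_of_sr RGDTwD4.hp coxeterD4.toCoxeterSystem hvr _ _,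
    show rep coxeterD4.toCoxeterSystem RGDTwD4.hp.isCartan (el C) (sr j) = hd C j from hvr j] at h2
  exact h2

/-- at most half of the Weyl group commutes with `θ` -/
theorem card_Cth_le (hL : ChainOK DataD4C.Am L) (hT : ∀ j, hd L ((![2, 1, 3, 0] : Fin 4 → Fin 4) j) = Th j)
    (hn : ¬ CommOK Th (hd cS0)) : Nat.card ↥(Cth RGDTwD4.hp tri (el L)) ≤ 96 := by
  let K : Subgroup coxeterD4.Group :=
    { carrier := Cth RGDTwD4.hp tri (el L)
      one_mem' := fun x => by simp only [map_one, Module.End.one_apply]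
      mul_mem' := by
        intro a b ha hb x
        rw [rep_mul_apply, hb, ha, ← rep_mul_apply coxeterD4.toCoxeterSystem RGDTwD4.hp.isCartan a b]
      inv_mem' := by
        intro a ha x
        have h1 := ha (rep coxeterD4.toCoxeterSystem RGDTwD4.hp.isCartan a⁻¹ x)
        rw [rep_apply_inv] at h1
        rw [← h1, rep_inv_apply] }
  have hK : K ≠ ⊤ := by
    intro h
    exact hn (commOK_of hL hT okS0 (by
      have : el cS0 ∈ K := h ▸ Subgroup.mem_top _
      exact this))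
  have h1 := K.card_mul_index
  rw [TwD4Cyc.card_W] at h1
  have h2 : K.index ≠ 1 := fun h => hK (Subgroup.index_eq_one.1 h)
  have h3 : K.index ≠ 0 := Subgroup.index_ne_zero_of_finite
  have h4 : 2 ≤ K.index := by omega
  have h5 : Nat.card K * 2 ≤ 192 := h1 ▸ Nat.mul_le_mul_left _ h4
  show Nat.card K ≤ 96
  omega

end

/-! ## the roots -/

theorem roots1 : ∀ s : Fin chevD4.nroots, (vec chevD4 4 s 1 = 1 ∨ vec chevD4 4 s 1 = -1 ∨ vec chevD4 4 s 1 = 2 ∨
    vec chevD4 4 s 1 = -2) ∨ (vec chevD4 4 s 0 + vec chevD4 4 s 2 + vec chevD4 4 s 3 = 1 ∨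
    vec chevD4 4 s 0 + vec chevD4 4 s 2 + vec chevD4 4 s 3 = -1) := by decide +kernel

/-- the norm of `x + y ω` -/
def nrm (x y : ℤ) : ℤ := x ^ 2 - x * y + y ^ 2

theorem roots3 : ∀ s : Fin chevD4.nroots,
    (nrm (vec chevD4 4 s 0 - vec chevD4 4 s 3) (vec chevD4 4 s 2 - vec chevD4 4 s 3) = 1 ∨
      nrm (vec chevD4 4 s 0 - vec chevD4 4 s 3) (vec chevD4 4 s 2 - vec chevD4 4 s 3) = 3) ∨
    nrm (3 * vec chevD4 4 s 1 - (vec chevD4 4 s 0 + vec chevD4 4 s 2 + vec chevD4 4 s 3))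
      (vec chevD4 4 s 0 + vec chevD4 4 s 2 + vec chevD4 4 s 3) = 9 := by decide +kernel

section

variable {N : ℕ}

theorem isUnit_of_nrm {o : ZMod N} (ho : o ^ 2 + o + 1 = 0) {x y n : ℤ} (hn : nrm x y = n) (hu : IsUnit ((n : ℤ) : ZMod N)) :
    IsUnit ((x : ZMod N) + y * o) := by
  have h : ((x : ZMod N) + y * o) * ((x : ZMod N) + y * o ^ 2) = ((n : ℤ) : ZMod N) := by
    rw [← hn]
    unfold nrm
    push_cast
    linear_combination ((x : ZMod N) * y + (y : ZMod N) ^ 2 * (o - 1)) * ho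
  exact isUnit_of_mul_isUnit_left (h ▸ hu)

theorem isUnit_cast {p a n : ℕ} [hpp : Fact p.Prime] (h5 : 5 ≤ p) (hn : n ∣ 36) : IsUnit ((n : ℕ) : ZMod (p ^ a)) := by
  rw [ZMod.isUnit_iff_coprime]
  refine Nat.Coprime.coprime_dvd_left hn (Nat.Coprime.pow_right _ ?_)
  have h1 : Nat.Coprime 36 p := by
    rw [Nat.coprime_comm, Nat.Prime.coprime_iff_not_dvd hpp.out]
    intro h
    rw [show (36 : ℕ) = 2 ^ 2 * 3 ^ 2 by norm_num, hpp.out.dvd_mul] at h
    rcases h with h | h
    · have := (Nat.prime_dvd_prime_iff_eq hpp.out Nat.prime_two).1 (hpp.out.dvd_of_dvd_pow h)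
      omega
    · have := (Nat.prime_dvd_prime_iff_eq hpp.out Nat.prime_three).1 (hpp.out.dvd_of_dvd_pow h)
      omega
  exact h1

end

/-- the functional for `d = 1, 2` -/
def ta : Fin 4 → ℤ := ![1, 0, 1, 1]

/-! ## the main lemma -/

theorem arith {p N m : ℕ} (h11 : 11 ≤ p) (hN : 121 ≤ N) (h : N ^ 2 ≤ m + 24 * N) : 96 * N ^ 2 < p ^ 2 * m := by
  have h1 : 121 ≤ p ^ 2 := by nlinarith
  have h2 : 121 * m ≤ p ^ 2 * m := Nat.mul_le_mul_right _ h1
  nlinarith

variable {S : Type u} [Group S] [Finite S] {F : Type v} [Field F] [Fintype F] {p : ℕ} [hpp : Fact p.Prime]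
    {I : Ideal AlgInt}

/-- **`x0 = kJ`** from the data of the torus -/
theorem x0_eq_kJ_of_data (hM : IsPModular p I) (h11 : 11 ≤ p) {q : ℕ} (hq : IsPrimePow q)
    (hF : Fintype.card F = q ^ 3) (hpq : ¬ p ∣ q) (e : S ≃* ↥(Lie.twistedD4 F q))
    {L : List (Fin 4 × Mat 4)} {Th : Mat 4} (hL : ChainOK DataD4C.Am L)
    (hT : ∀ j, hd L ((![2, 1, 3, 0] : Fin 4 → Fin 4) j) = Th j) (hn : ¬ CommOK Th (hd cS0)) {a : ℕ} (ha0 : 1 ≤ a)
    {b c : Fin 4 → ZMod (p ^ a)} (hb : EigOK Th (q : ZMod (p ^ a)) b) (hc : EigOK Th (q : ZMod (p ^ a)) c)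
    (hinj : ∀ x y : ZMod (p ^ a), x • b + y • c = 0 → x = 0 ∧ y = 0)
    (hun : ∀ s : Fin chevD4.nroots, IsUnit (lam b (vec chevD4 4 s)) ∨ IsUnit (lam c (vec chevD4 4 s)))
    (hcard : ¬ p ^ (2 * a + 1) ∣ Nat.card S) : x0 p I S = kJ p I S := by
  classical
  have hp1 : p.Prime := hpp.out
  have hNz : NeZero (p ^ a) := ⟨pow_ne_zero _ hp1.ne_zero⟩
  obtain ⟨r, e', hpF, hpc, hpk, -, hpe, hk⟩ := TorusUntw.exists_closure hF
  obtain ⟨r', f, hp', he, hqe'⟩ := id hq
  have hpp' : r' = r := by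
    have h1 : r' ∣ r ^ e' := by
      rw [← hpe, ← hqe']
      exact dvd_pow (dvd_pow_self r' he.ne') (by norm_num)
    exact (Nat.prime_dvd_prime_iff_eq hp'.nat_prime hpF.out).1 (hp'.nat_prime.dvd_of_dvd_pow h1)
  subst hpp'
  have hqe : q = r' ^ f := hqe'.symm
  have hpr : p ≠ r' := by
    rintro rfl
    exact hpq (by rw [hqe]; exact dvd_pow_self _ he.ne')
  have hW : ¬ p ∣ Nat.card coxeterD4.Group := TwD4Cyc.not_dvd_W hp1 (by omega) (by omega)
  obtain ⟨X, H⟩ := exists_modelN (k := AlgebraicClosure F) (a := a) RGDTwD4.hp hk hpr hW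
    TorusChar.invC_D4 (by norm_num) he isFrob_tau (fr_tau coxeterD4.toCoxeterSystem)
    (f := (embT (algebraMap F (AlgebraicClosure F)) hq hF).comp e.toMonoidHom)
    ((embT_injective _ hq hF).comp e.injective) (fun y hy => by
      obtain ⟨x, hx⟩ := tau_range _ hqe hq hF hy
      exact ⟨e.symm x, by
        show embT (algebraMap F (AlgebraicClosure F)) hq hF (e (e.symm x)) = y
        rw [e.apply_symm_apply]
        exact hx⟩) (el L)
  rw [← hqe] at H
  -- the eigenspace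
  have hmem : ∀ a' : Fin 4 → ZMod (p ^ a), EigOK Th (q : ZMod (p ^ a)) a' →
      a' ∈ Lam RGDTwD4.hp (p ^ a) q tri (el L) := fun a' h => mem_Lam hL hT h
  have hlin : ∀ z : ZMod (p ^ a) × ZMod (p ^ a), z.1 • b + z.2 • c ∈ Lam RGDTwD4.hp (p ^ a) q tri (el L) := fun z =>
    Lam.add _ (Lam.smul _ _ (hmem b hb)) (Lam.smul _ _ (hmem c hc))
  have hinj' : Function.Injective fun z : ZMod (p ^ a) × ZMod (p ^ a) => z.1 • b + z.2 • c := by
    rintro ⟨x, y⟩ ⟨x', y'⟩ h
    have h1 : (x - x') • b + (y - y') • c = 0 := by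
      have h2 : x • b + y • c = x' • b + y' • c := h
      rw [sub_smul, sub_smul]
      calc x • b - x' • b + (y • c - y' • c) = (x • b + y • c) - (x' • b + y' • c) := by abel
        _ = 0 := by rw [h2, sub_self]
    obtain ⟨h2, h3⟩ := hinj _ _ h1
    rw [sub_eq_zero.1 h2, sub_eq_zero.1 h3]
  have hcardL : p ^ (2 * a) ≤ Nat.card ↥(Lam RGDTwD4.hp (p ^ a) q tri (el L)) := by
    have h1 := Nat.card_le_card_of_injective
      (fun z : ZMod (p ^ a) × ZMod (p ^ a) => (⟨z.1 • b + z.2 • c, hlin z⟩ : ↥(Lam RGDTwD4.hp (p ^ a) q tri (el L))))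
      (fun z z' h => hinj' (congrArg Subtype.val h))
    rw [Nat.card_prod, Nat.card_zmod, ← sq, ← pow_mul, mul_comm] at h1
    exact h1
  obtain ⟨hLc, P, hP⟩ := exists_sylow H hcardL hcard
  have hPc : Nat.card P = p ^ (2 * a) := by
    have h1 : Nat.card P = Nat.card ↥(toSub H) := by rw [← hP]
    rw [h1, card_toSub, hLc]
  rcases Nat.lt_or_ge a 2 with h2 | h2
  · have ha1 : a = 1 := by omega
    subst ha1
    exact H603.AP.x0_eq_kJ_of_sq hM P hPc
  -- `a ≥ 2`
  refine H603.AP.x0_eq_kJ_of_reg hM P ?_ (height_hyp H P hP (n := 96) (card_Cth_le hL hT hn) ?_)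
  · rw [hP]
    exact fun x hx y hy => toSub_comm H hx hy
  rw [hLc]
  have h3 := card_good (N := p ^ a) (fun s : Fin chevD4.nroots => lam b (vec chevD4 4 s))
    (fun s => lam c (vec chevD4 4 s)) hun
  have h4 : (Finset.univ.filter fun z : ZMod (p ^ a) × ZMod (p ^ a) =>
      ∀ s : Fin chevD4.nroots, z.1 * lam b (vec chevD4 4 s) + z.2 * lam c (vec chevD4 4 s) ≠ 0).card ≤
      Nat.card ↥(LamReg RGDTwD4.hp (p ^ a) q tri (el L)) := by
    rw [← Fintype.card_coe, ← Nat.card_eq_fintype_card]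
    refine Nat.card_le_card_of_injective (fun z => ⟨z.1.1 • b + z.1.2 • c, hlin z.1, fun s => ?_⟩) ?_
    · have h5 := (Finset.mem_filter.1 z.2).2 s
      rw [lam_add', lam_smul', lam_smul']
      exact h5
    · intro z z' h
      exact Subtype.ext (hinj' (congrArg Subtype.val h))
  have h5 : 121 ≤ p ^ a := by
    calc 121 = 11 ^ 2 := by norm_num
      _ ≤ p ^ 2 := Nat.pow_le_pow_left h11 2
      _ ≤ p ^ a := Nat.pow_le_pow_right hp1.pos h2
  have h6 := arith h11 h5 (m := Nat.card ↥(LamReg RGDTwD4.hp (p ^ a) q tri (el L)))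
    (h3.trans (Nat.add_le_add_right h4 _))
  rw [show p ^ (2 * a) = (p ^ a) ^ 2 by rw [← pow_mul, mul_comm]]
  exact h6

end Cfsg.Agent.H875.XD
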